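import Mathlib

/-!
# Generators of order `p` for Sylow `p`-subgroups of symmetric groups
-/

set_option autoImplicit false

namespace Cfsg.Agent.Lib.SymSylow

open Equiv
open scoped Pointwise

universe u v

/-- A generating set of elements of exponent `p` whose odd members commute. -/
def GoodGens (p : ℕ) {α : Type u} [DecidableEq α] [Fintype α] (X : Set (Perm α)) : Prop :=
  (∀ x ∈ X, x ^ p = 1) ∧
    ∀ x ∈ X, ∀ y ∈ X, Perm.sign x = -1 → Perm.sign y = -1 → Commute x y

theorem goodGens_image {p : ℕ} {α : Type u} {β : Type v} [DecidableEq α] [Fintype α] [DecidableEq β]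
    [Fintype β] (f : Perm α →* Perm β) (hsign : ∀ x, Perm.sign (f x) = Perm.sign x)
    {X : Set (Perm α)} (h : GoodGens p X) : GoodGens p (f '' X) := by
  refine ⟨?_, ?_⟩
  · rintro _ ⟨x, hx, rfl⟩
    rw [← map_pow, h.1 x hx, map_one]
  · rintro _ ⟨x, hx, rfl⟩ _ ⟨y, hy, rfl⟩ sx sy
    rw [hsign] at sx sy
    exact (h.2 x hx y hy sx sy).map f

section Step

variable {p m : ℕ}

/-- `(i, j) ↦ (i + f j, σ j)`. -/
def shiftPerm (f : Fin m → ZMod p) (σ : Perm (Fin m)) : Perm (ZMod p × Fin m) where
  toFun x := (x.1 + f x.2, σ x.2)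
  invFun x := (x.1 - f (σ.symm x.2), σ.symm x.2)
  left_inv x := by simp
  right_inv x := by simp

theorem shiftPerm_mul (f g : Fin m → ZMod p) (σ τ : Perm (Fin m)) :
    shiftPerm f σ * shiftPerm g τ = shiftPerm (g + f ∘ τ) (σ * τ) := by
  ext ⟨i, j⟩ <;> simp [shiftPerm, add_assoc]

theorem shiftPerm_one : shiftPerm (0 : Fin m → ZMod p) 1 = 1 := by
  ext ⟨i, j⟩ <;> simp [shiftPerm]

/-- Lifting of a permutation of the blocks. -/
def liftHom : Perm (Fin m) →* Perm (ZMod p × Fin m) where
  toFun σ := shiftPerm (0 : Fin m → ZMod p) σ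
  map_one' := shiftPerm_one
  map_mul' σ τ := by rw [shiftPerm_mul]; simp

/-- Rotations inside the blocks. -/
def baseHom : Multiplicative (Fin m → ZMod p) →* Perm (ZMod p × Fin m) where
  toFun f := shiftPerm f.toAdd 1
  map_one' := shiftPerm_one
  map_mul' f g := by rw [shiftPerm_mul]; simp [add_comm]

theorem base_mul_lift (f : Fin m → ZMod p) (σ : Perm (Fin m)) :
    shiftPerm (f ∘ σ) σ = baseHom (Multiplicative.ofAdd f) * liftHom σ := by
  show _ = shiftPerm f 1 * shiftPerm 0 σ
  rw [shiftPerm_mul, zero_add, one_mul]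

theorem sign_liftHom [NeZero p] (σ : Perm (Fin m)) :
    Perm.sign (liftHom σ : Perm (ZMod p × Fin m)) = Perm.sign σ ^ p := by
  have h : (liftHom σ : Perm (ZMod p × Fin m)) = Equiv.prodCongrRight fun _ : ZMod p => σ := by
    ext ⟨i, j⟩ <;> simp [liftHom, shiftPerm]
  rw [h, Perm.sign_prodCongrRight, Finset.prod_const, Finset.card_univ, ZMod.card]

theorem exists_step [Fact p.Prime] {X : Set (Perm (Fin m))} (hX : GoodGens p X) {k : ℕ}
    (hk : Nat.card (Subgroup.closure X) = p ^ k) :
    ∃ Y : Set (Perm (ZMod p × Fin m)), GoodGens p Y ∧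
      Nat.card (Subgroup.closure Y) = p ^ (k + m) := by
  classical
  let gen : Fin m → Multiplicative (Fin m → ZMod p) := fun j => Multiplicative.ofAdd (Pi.single j 1)
  set S := Subgroup.closure X
  set Y : Set (Perm (ZMod p × Fin m)) :=
    Set.range (fun j => baseHom (gen j)) ∪ liftHom '' X with hY
  refine ⟨Y, ⟨?_, ?_⟩, ?_⟩
  · rintro _ (⟨j, rfl⟩ | ⟨x, hx, rfl⟩)
    · simp only
      rw [← map_pow]
      convert map_one (baseHom (p := p) (m := m))
      show Multiplicative.ofAdd (p • (Pi.single j 1 : Fin m → ZMod p)) = 1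
      rw [show p • (Pi.single j 1 : Fin m → ZMod p) = 0 from funext fun i => by simp]
      rfl
    · rw [← map_pow, hX.1 x hx, map_one]
  · have heven : ∀ x ∈ X, Perm.sign (liftHom x : Perm (ZMod p × Fin m)) = 1 := fun x hx => by
      rw [sign_liftHom, ← map_pow, hX.1 x hx, map_one]
    rintro _ (⟨i, rfl⟩ | ⟨x, hx, rfl⟩) _ (⟨j, rfl⟩ | ⟨y, hy, rfl⟩) sx sy
    · exact (Commute.all (gen i) (gen j)).map baseHom
    all_goals first
      | (rw [heven y hy] at sy; exact absurd sy (by decide))
      | (rw [heven x hx] at sx; exact absurd sx (by decide))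
  · let W : Subgroup (Perm (ZMod p × Fin m)) :=
      { carrier := {w | ∃ f : Fin m → ZMod p, ∃ σ ∈ S, w = shiftPerm f σ}
        one_mem' := ⟨0, 1, S.one_mem, shiftPerm_one.symm⟩
        mul_mem' := by
          rintro _ _ ⟨f, σ, hσ, rfl⟩ ⟨g, τ, hτ, rfl⟩
          exact ⟨g + f ∘ τ, σ * τ, S.mul_mem hσ hτ, shiftPerm_mul f g σ τ⟩
        inv_mem' := by
          rintro _ ⟨f, σ, hσ, rfl⟩
          refine ⟨-(f ∘ (σ⁻¹ : Perm (Fin m))), σ⁻¹, S.inv_mem hσ, inv_eq_of_mul_eq_one_right ?_⟩
          rw [shiftPerm_mul, mul_inv_cancel, neg_add_cancel, shiftPerm_one] }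
    have hclosure : Subgroup.closure Y = W := by
      apply le_antisymm
      · rw [Subgroup.closure_le]
        rintro _ (⟨j, rfl⟩ | ⟨x, hx, rfl⟩)
        · exact ⟨_, 1, S.one_mem, rfl⟩
        · exact ⟨0, x, Subgroup.subset_closure hx, rfl⟩
      · rintro _ ⟨f, σ, hσ, rfl⟩
        have hbase : ∀ g : Fin m → ZMod p,
            baseHom (Multiplicative.ofAdd g) ∈ Subgroup.closure Y := by
          intro g
          have hg : Multiplicative.ofAdd g = ∏ j : Fin m, gen j ^ (g j).val := by
            apply Multiplicative.toAdd.injective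
            rw [toAdd_prod]
            simp only [toAdd_pow, gen, toAdd_ofAdd]
            funext i
            rw [Finset.sum_apply, Finset.sum_eq_single i (fun b _ hb => by simp [hb.symm])
              (fun h => absurd (Finset.mem_univ i) h), Pi.smul_apply, Pi.single_eq_same, nsmul_one,
              ZMod.natCast_zmod_val]
          rw [hg]
          exact (Subgroup.closure Y).comap baseHom |>.prod_mem fun j _ =>
            pow_mem (Subgroup.mem_comap.mpr (Subgroup.subset_closure (Set.mem_union_left _ (Set.mem_range_self (f := fun j => baseHom (gen j)) j)))) _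
        have hlift : liftHom σ ∈ Subgroup.closure Y := by
          have := Subgroup.mem_map_of_mem (liftHom (p := p)) hσ
          rw [MonoidHom.map_closure] at this
          exact Subgroup.closure_mono Set.subset_union_right this
        have := base_mul_lift (f ∘ (σ⁻¹ : Perm (Fin m))) σ
        rw [show (f ∘ (σ⁻¹ : Perm (Fin m))) ∘ σ = f from funext fun i => by simp] at this
        rw [this]
        exact mul_mem (hbase _) hlift
    rw [hclosure]
    let φ : (Fin m → ZMod p) × S → W := fun q =>
      Subtype.mk (shiftPerm q.1 (q.2 : Perm (Fin m)))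
        (show ∃ f, ∃ σ ∈ S, shiftPerm q.1 (q.2 : Perm (Fin m)) = shiftPerm f σ from ⟨q.1, q.2, q.2.2, rfl⟩)
    have hφ : Function.Bijective φ := by
      constructor
      · rintro ⟨f, σ⟩ ⟨g, τ⟩ h
        have h' : shiftPerm f (σ : Perm (Fin m)) = shiftPerm g (τ : Perm (Fin m)) :=
          congrArg Subtype.val h
        have h1 : ∀ j, f j = g j ∧ (σ : Perm (Fin m)) j = (τ : Perm (Fin m)) j := fun j => by
          simpa [shiftPerm, Prod.ext_iff] using Equiv.congr_fun h' (0, j)
        exact Prod.ext (funext fun j => (h1 j).1) (Subtype.ext (Equiv.ext fun j => (h1 j).2))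
      · rintro ⟨_, f, σ, hσ, rfl⟩
        exact ⟨(f, ⟨σ, hσ⟩), rfl⟩
    rw [← Nat.card_congr (Equiv.ofBijective φ hφ), Nat.card_prod, hk, Nat.card_fun, Nat.card_zmod,
      Nat.card_eq_fintype_card, Fintype.card_fin, ← pow_add, Nat.add_comm]

end Step

theorem exists_goodGens (p : ℕ) [hp : Fact p.Prime] (n : ℕ) :
    ∃ X : Set (Perm (Fin n)), GoodGens p X ∧
      Nat.card (Subgroup.closure X) = p ^ padicValNat p n.factorial := by
  classical
  induction n using Nat.strong_induction_on with
  | _ n ih =>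
    rcases Nat.eq_zero_or_pos n with rfl | hn
    · exact ⟨∅, ⟨fun x h => absurd h (Set.notMem_empty x), fun x h => absurd h (Set.notMem_empty x)⟩,
        by simp⟩
    by_cases hd : p ∣ n
    · obtain ⟨m, rfl⟩ := hd
      have hm0 : 0 < m := Nat.pos_of_mul_pos_left hn
      obtain ⟨X, hX, hXc⟩ := ih m ((lt_mul_iff_one_lt_left hm0).mpr hp.out.one_lt)
      obtain ⟨Y, hY, hYc⟩ := exists_step hX hXc
      let e : ZMod p × Fin m ≃ Fin (p * m) := Fintype.equivFinOfCardEq (by simp)
      refine ⟨(Equiv.permCongrHom e).toMonoidHom '' Y,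
        goodGens_image _ (fun x => Perm.sign_permCongr e x) hY, ?_⟩
      rw [← MonoidHom.map_closure, Subgroup.card_map_of_injective (Equiv.permCongrHom e).injective,
        hYc, padicValNat_factorial_mul]
    · obtain ⟨k, rfl⟩ := Nat.exists_eq_add_of_le' hn
      obtain ⟨X, hX, hXc⟩ := ih k (by omega)
      let e : Fin k ≃ {x : Fin (k + 1) // x ≠ Fin.last k} := finSuccAboveEquiv (Fin.last k)
      refine ⟨Perm.extendDomainHom e '' X,
        goodGens_image _ (fun x => Perm.sign_extendDomain x e) hX, ?_⟩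
      rw [← MonoidHom.map_closure,
        Subgroup.card_map_of_injective (Perm.extendDomainHom_injective e), hXc, Nat.factorial_succ,
        padicValNat.mul (Nat.succ_ne_zero k) k.factorial_ne_zero,
        padicValNat.eq_zero_of_not_dvd hd, zero_add]

/-- Every Sylow subgroup of a symmetric group is generated by such a set. -/
theorem exists_goodGens_sylow (p : ℕ) [hp : Fact p.Prime] {n : ℕ} (P : Sylow p (Perm (Fin n))) :
    ∃ X : Set (Perm (Fin n)), GoodGens p X ∧ Subgroup.closure X = (P : Subgroup (Perm (Fin n))) := by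
  classical
  obtain ⟨X, hX, hXc⟩ := exists_goodGens p n
  have hc : Nat.card (Subgroup.closure X) = p ^ (Nat.card (Perm (Fin n))).factorization p := by
    rw [hXc, Nat.card_perm, Nat.card_fin, Nat.factorization_def _ hp.out]
  obtain ⟨g, hg⟩ := MulAction.exists_smul_eq (Perm (Fin n)) (Sylow.ofCard _ hc) P
  refine ⟨(MulAut.conj g).toMonoidHom '' X, goodGens_image _ (fun x => ?_) hX, ?_⟩
  · show Perm.sign (g * x * g⁻¹) = Perm.sign x
    rw [map_mul, map_mul, map_inv, mul_comm (Perm.sign g), mul_assoc, mul_inv_cancel, mul_one]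
  · rw [← MonoidHom.map_closure, ← hg, Sylow.coe_subgroup_smul, Sylow.coe_ofCard]
    rfl

/-- In a group generated by elements of exponent `p`, the derived quotient has exponent `p`. -/
theorem pow_mem_commutator {P : Type u} [Group P] {p : ℕ} {X : Set P}
    (hX : Subgroup.closure X = ⊤) (hp : ∀ x ∈ X, x ^ p = 1) (y : P) : y ^ p ∈ commutator P := by
  rw [← QuotientGroup.eq_one_iff]
  let f : P →* Abelianization P := (powMonoidHom p).comp Abelianization.of
  have hle : Subgroup.closure X ≤ f.ker := (Subgroup.closure_le _).mpr fun x hx => by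
    show Abelianization.of x ^ p = 1
    rw [← map_pow, hp x hx, map_one]
  have h : f y = 1 := hle (by rw [hX]; trivial)
  exact h

/-- The even part of a group with such generators is generated by elements of exponent `p`. -/
theorem even_le_closure {G : Type u} [Group G] {p : ℕ} [hp : Fact p.Prime] (s : G →* ℤˣ)
    {X : Set G} (hX : ∀ x ∈ X, x ^ p = 1)
    (hc : ∀ x ∈ X, ∀ y ∈ X, s x = -1 → s y = -1 → Commute x y) :
    Subgroup.closure X ⊓ s.ker ≤
      Subgroup.closure {y | y ∈ Subgroup.closure X ⊓ s.ker ∧ y ^ p = 1} := by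
  set Y := {y | y ∈ Subgroup.closure X ⊓ s.ker ∧ y ^ p = 1}
  by_cases hall : ∀ x ∈ X, s x = 1
  · refine inf_le_left.trans ((Subgroup.closure_le _).mpr fun x hx => Subgroup.subset_closure ?_)
    exact ⟨⟨Subgroup.subset_closure hx, hall x hx⟩, hX x hx⟩
  push Not at hall
  obtain ⟨t, ht, hst⟩ := hall
  have hst' : s t = -1 := (Int.units_eq_one_or (s t)).resolve_left hst
  have hp2 : p = 2 := by
    rcases hp.out.eq_two_or_odd' with h | h
    · exact h
    · exfalso
      have := congrArg s (hX t ht)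
      rw [map_pow, hst', h.neg_one_pow, map_one] at this
      exact absurd this (by decide)
  set H := Subgroup.closure Y
  have hnorm : Subgroup.closure X ≤ Subgroup.normalizer (H : Set G) := by
    have key : ∀ g ∈ Subgroup.closure X, ∀ h ∈ H, g * h * g⁻¹ ∈ H := by
      intro g hg h hh
      have hle : H ≤ H.comap (MulAut.conj g).toMonoidHom := by
        refine (Subgroup.closure_le _).mpr fun y hy => Subgroup.subset_closure
          ⟨⟨(Subgroup.closure X).mul_mem ((Subgroup.closure X).mul_mem hg hy.1.1)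
            ((Subgroup.closure X).inv_mem hg), ?_⟩, ?_⟩
        · show s (g * y * g⁻¹) = 1
          rw [map_mul, map_mul, show s y = 1 from hy.1.2, mul_one, map_inv, mul_inv_cancel]
        · show (g * y * g⁻¹) ^ p = 1
          rw [conj_pow, hy.2]; simp
      exact hle hh
    intro g hg
    refine Subgroup.mem_normalizer_iff.mpr fun h => ⟨key g hg h, fun h' => ?_⟩
    simpa [mul_assoc] using key g⁻¹ ((Subgroup.closure X).inv_mem hg) _ h'
  have htn : Subgroup.zpowers t ≤ Subgroup.normalizer (H : Set G) :=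
    Subgroup.zpowers_le.mpr (hnorm (Subgroup.subset_closure ht))
  have hgen : Subgroup.closure X ≤ H ⊔ Subgroup.zpowers t := by
    refine (Subgroup.closure_le _).mpr fun x hx => ?_
    rcases Int.units_eq_one_or (s x) with hsx | hsx
    · exact Subgroup.mem_sup_left
        (Subgroup.subset_closure ⟨⟨Subgroup.subset_closure hx, hsx⟩, hX x hx⟩)
    · rw [show x = x * t * t⁻¹ by group]
      refine mul_mem (Subgroup.mem_sup_left (Subgroup.subset_closure ⟨⟨mul_mem
        (Subgroup.subset_closure hx) (Subgroup.subset_closure ht), ?_⟩, ?_⟩))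
        (inv_mem (Subgroup.mem_sup_right (Subgroup.mem_zpowers t)))
      · show s (x * t) = 1
        rw [map_mul, hsx, hst']; decide
      · rw [(hc x hx t ht hsx hst').mul_pow, hX x hx, hX t ht, one_mul]
  rintro g ⟨hg, hgs⟩
  have hg' : g ∈ ((H : Set G) * (Subgroup.zpowers t : Set G)) := by
    rw [← Subgroup.coe_mul_of_right_le_normalizer_left H _ htn]
    exact hgen hg
  obtain ⟨h, hh, u, ⟨k, rfl⟩, rfl⟩ := Set.mem_mul.mp hg'
  have hsh : s h = 1 := ((Subgroup.closure_le s.ker).mpr fun y hy => hy.1.2 : H ≤ s.ker) hh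
  have hk : Even k := by
    have h1 : s (h * t ^ k) = 1 := hgs
    rw [map_mul, hsh, one_mul, map_zpow, hst'] at h1
    by_contra hodd
    rw [(Int.not_even_iff_odd.mp hodd).neg_one_zpow] at h1
    exact absurd h1 (by decide)
  obtain ⟨j, rfl⟩ := hk
  have ht2 : t ^ (j + j) = 1 := by
    rw [← two_mul, zpow_mul, show t ^ (2 : ℤ) = 1 by
      rw [zpow_ofNat]; exact hp2 ▸ hX t ht, one_zpow]
  show h * t ^ (j + j) ∈ H
  rwa [ht2, mul_one]

end Cfsg.Agent.Lib.SymSylow
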